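import Mathlib
import Cfsg.Agent.FixBN.Par
import Cfsg.Agent.Tits.Exchange

/-!
# S2451 (products of two classes which are a class), helper197: basic facts on `FixBN.Sys`

* `PE p g` : `g` is a `p`-element; it fixes a chamber, a chamber of each invariant residue, and one or all chambers
  of an invariant panel;
* `exists_smul`, `exists_smul_pair` : strong transitivity;
* `Good p a b` : all products `a * (g * b * g⁻¹)` are `p`-elements;
* `Dis Δ a b` : the common displacements of `a⁻¹` and `b`.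
-/

set_option autoImplicit false
set_option linter.unusedSectionVars false

open scoped Pointwise

namespace Cfsg.Agent.H197.Cls

open Cfsg.Agent.Tits.Core Cfsg.Agent.Tits.Core.Bldg Cfsg.Agent.Tits.Exchange Cfsg.Agent.Tits Cfsg.Agent.FixBN

variable {I : Type*} {M : CoxeterMatrix I} {W : Type*} [Group W] {cs : CoxeterSystem M W} {C : Type*}

local prefix:100 "ℓ" => cs.length

/-- `g` is a `p`-element -/
def PE {G : Type*} [Group G] (p : ℕ) (g : G) : Prop := ∃ k : ℕ, g ^ p ^ k = 1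

theorem PE.isPGroup {G : Type*} [Group G] {p : ℕ} [hp : Fact p.Prime] {g : G} (h : PE p g) :
    IsPGroup p (Subgroup.zpowers g) := by
  obtain ⟨k, hk⟩ := h
  obtain ⟨j, -, hj⟩ := (Nat.dvd_prime_pow hp.out).1 (orderOf_dvd_of_pow_eq_one hk)
  exact IsPGroup.of_card (n := j) (by rw [Nat.card_zpowers, hj])

theorem PE.conj {G : Type*} [Group G] {p : ℕ} {g : G} (h : PE p g) (x : G) : PE p (x * g * x⁻¹) := by
  obtain ⟨k, hk⟩ := h
  exact ⟨k, by rw [conj_pow, hk, mul_one, mul_inv_cancel]⟩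

/-- all products of `a` with a conjugate of `b` are `p`-elements -/
def Good {G : Type*} [Group G] (p : ℕ) (a b : G) : Prop := ∀ g : G, PE p (a * (g * b * g⁻¹))

namespace Good

variable {G : Type*} [Group G] {p : ℕ} {a b : G}

theorem conjR (h : Good p a b) (x : G) : Good p a (x * b * x⁻¹) := by
  intro g
  have h1 := h (g * x)
  have e : a * (g * x * b * (g * x)⁻¹) = a * (g * (x * b * x⁻¹) * g⁻¹) := by group
  rwa [e] at h1

theorem mul (h : Good p a b) : PE p (a * b) := by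
  have := h 1
  simpa using this

theorem swap (h : Good p a b) : Good p b a := by
  intro g
  have h1 := (h g⁻¹).conj a⁻¹
  have h2 := h1.conj g
  have e : g * (a⁻¹ * (a * (g⁻¹ * b * g⁻¹⁻¹)) * a⁻¹⁻¹) * g⁻¹ = b * (g * a * g⁻¹) := by group
  rwa [e] at h2

theorem conjL (h : Good p a b) (x : G) : Good p (x * a * x⁻¹) b := (h.swap.conjR x).swap

theorem inv (h : Good p a b) : Good p b⁻¹ a⁻¹ := by
  intro g
  obtain ⟨k, hk⟩ := h.swap g
  have h1 : (b * (g * a * g⁻¹))⁻¹ ^ p ^ k = 1 := by rw [inv_pow, hk, inv_one]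
  have h2 : PE p ((b * (g * a * g⁻¹))⁻¹) := ⟨k, h1⟩
  have h3 := h2.conj ((g * a * g⁻¹))
  have e : g * a * g⁻¹ * (b * (g * a * g⁻¹))⁻¹ * (g * a * g⁻¹)⁻¹ = b⁻¹ * (g * a⁻¹ * g⁻¹) := by group
  rwa [e] at h3

end Good

variable {Δ : Bldg cs C} {G : Type*} [Group G] [MulAction G C] {p : ℕ} (S : Sys Δ G p)

include S

theorem smul_Pan (g : G) (i : I) (x : C) : g • Δ.Pan i x = Δ.Pan i (g • x) := by
  rw [Pan_eq_Res, Pan_eq_Res, S.smul_Res]

theorem smul_mem_Pan {g : G} {i : I} {x y : C} (h : y ∈ Δ.Pan i x) : g • y ∈ Δ.Pan i (g • x) := by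
  rw [Pan_eq_Res] at h ⊢
  exact S.smul_mem_Res h

theorem smul_isProj {g : G} {J : Set I} {x u q : C} (h : Δ.IsProj J x u q) :
    Δ.IsProj J (g • x) (g • u) (g • q) := by
  rw [Δ.isProj_iff] at h ⊢
  exact ⟨S.smul_mem_Res h.1, by rw [S.iso]; exact h.2⟩

variable [hp : Fact p.Prime]

theorem exists_fixed {g : G} (hg : PE p g) : ∃ x : C, g • x = x := by
  obtain ⟨x, hx⟩ := S.exists_fix _ hg.isPGroup
  exact ⟨x, hx g (Subgroup.mem_zpowers g)⟩

theorem mem_U {g : G} (hg : PE p g) {x : C} (hx : g • x = x) : g ∈ S.U x :=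
  S.mem_U_of_isPGroup hg.isPGroup (Subgroup.mem_zpowers g) hx

/-- a `p`-element fixes a chamber of each invariant residue -/
theorem exists_fixed_res {g : G} (hg : PE p g) {J : Set I} {x : C} (h : g • x ∈ Δ.Res J x) :
    ∃ y ∈ Δ.Res J x, g • y = y := by
  obtain ⟨u, hu⟩ := exists_fixed S hg
  obtain ⟨y, hy⟩ := Δ.exists_isProj J x u
  refine ⟨y, hy.mem, ?_⟩
  have h1 := smul_isProj S (g := g) hy
  rw [hu, Δ.isProj_congr h] at h1
  exact h1.unique hy

theorem exists_fixed_pan {g : G} (hg : PE p g) {i : I} {x : C} (h : g • x ∈ Δ.Pan i x) :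
    ∃ y ∈ Δ.Pan i x, g • y = y := by
  rw [Pan_eq_Res] at h ⊢
  exact exists_fixed_res S hg h

/-- a `p`-element fixing two chambers of a panel fixes the panel -/
theorem fix_pan {g : G} {i : I} {x y z : C} (hg : g ∈ S.U x) (hy : y ∈ Δ.Pan i x) (hxy : y ≠ x)
    (hgy : g • y = y) (hz : z ∈ Δ.Pan i x) : g • z = z := by
  rcases hy with rfl | hy
  · exact absurd rfl hxy
  · exact S.pan x y i hy g hg hgy z hz

section Trans

variable [F : OppRes.Cox cs]

omit hp in
/-- transitivity on the chambers -/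
theorem exists_smul (hth : Δ.Thick) (x y : C) : ∃ g : G, g • x = y := by
  have key : ∀ (w : W) (x y : C), Δ.δ x y = w → ∃ g : G, g • x = y := by
    intro w
    induction w using cs.simple_induction_right with
    | one =>
      intro x y h
      exact ⟨1, by rw [one_smul]; exact Δ.eq_of_δ_eq_one h⟩
    | mul_simple_right w i ih =>
      intro x y h
      obtain ⟨z, hz, hz'⟩ := Δ.exists_step x y i
      have h1 : Δ.δ x z = w := by rw [hz', h, mul_assoc, cs.simple_mul_simple_self, mul_one]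
      obtain ⟨g, hg⟩ := ih x z h1
      -- a third chamber of the panel of `y`, `z`
      obtain ⟨a, b, hab, ha, hb⟩ := hth y i
      obtain ⟨c, hc, hcz⟩ : ∃ c, Δ.δ y c = cs.simple i ∧ c ≠ z := by
        rcases eq_or_ne a z with rfl | h2
        · exact ⟨b, hb, fun h => hab h.symm⟩
        · exact ⟨a, ha, h2⟩
      have hcz' : Δ.δ c z = cs.simple i :=
        Δ.δ_eq_of_mem_Pan (Δ.mem_Pan_of_δ hc) (Δ.mem_Pan_of_δ hz) hcz
      obtain ⟨u, -, huz⟩ := S.exists_move (x := c) (z := z) (z' := y)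
        (by rw [hcz', Δ.δ_symm_simple hc])
      exact ⟨u * g, by rw [mul_smul, hg, huz]⟩
  exact key _ x y rfl

omit hp in
theorem exists_smul_pair (hth : Δ.Thick) {x y x' y' : C} (h : Δ.δ x y = Δ.δ x' y') :
    ∃ g : G, g • x = x' ∧ g • y = y' := by
  obtain ⟨g, hg⟩ := exists_smul S hth x x'
  obtain ⟨u, hu, huy⟩ := S.exists_move (x := x') (z := g • y) (z' := y')
    (by rw [← h, ← S.iso g x y, hg])
  exact ⟨u * g, by rw [mul_smul, hg, S.fix x' u hu], by rw [mul_smul, huy]⟩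

end Trans

omit S hp in
/-- the common displacements of `a⁻¹` and `b` -/
def Dis (Δ : Bldg cs C) (a b : G) : Set W :=
  {w | (∃ c, Δ.δ c (a⁻¹ • c) = w) ∧ ∃ c, Δ.δ c (b • c) = w}

theorem dis_nonempty {a b : G} (h : Good p a b) : (Dis Δ a b).Nonempty := by
  obtain ⟨c, hc⟩ := exists_fixed S h.mul
  have h1 : b • c = a⁻¹ • c := by rw [eq_inv_smul_iff, ← mul_smul, hc]
  exact ⟨Δ.δ c (b • c), ⟨c, by rw [h1]⟩, ⟨c, rfl⟩⟩

omit hp in
/-- conjugating `b` one can reach a common chamber -/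
theorem exists_pair [F : OppRes.Cox cs] (hth : Δ.Thick) {a b : G} {w : W} (hw : w ∈ Dis Δ a b) :
    ∃ (g : G) (c : C), Δ.δ c (a⁻¹ • c) = w ∧ (g * b * g⁻¹) • c = a⁻¹ • c := by
  obtain ⟨⟨c, hc⟩, d, hd⟩ := hw
  obtain ⟨g, hg1, hg2⟩ := exists_smul_pair S hth (x := d) (y := b • d) (x' := c) (y' := a⁻¹ • c)
    (by rw [hc, hd])
  refine ⟨g, c, hc, ?_⟩
  rw [mul_smul, mul_smul, ← hg2]
  congr 2
  rw [inv_smul_eq_iff, hg1]

omit hp in
theorem dis_conj {a b : G} (g : G) : Dis Δ a (g * b * g⁻¹) = Dis Δ a b := by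
  have key : ∀ (b g : G) (w : W), (∃ c, Δ.δ c (b • c) = w) → ∃ c, Δ.δ c ((g * b * g⁻¹) • c) = w := by
    rintro b g w ⟨c, hc⟩
    refine ⟨g • c, ?_⟩
    rw [mul_smul, mul_smul, inv_smul_smul, S.iso, hc]
  ext w
  constructor
  · rintro ⟨h1, h2⟩
    refine ⟨h1, ?_⟩
    have h3 := key _ g⁻¹ w h2
    have e : g⁻¹ * (g * b * g⁻¹) * g⁻¹⁻¹ = b := by group
    rwa [e] at h3
  · rintro ⟨h1, h2⟩
    exact ⟨h1, key _ g w h2⟩

omit hp in
theorem mem_dis {a b : G} {c : C} (h : b • c = a⁻¹ • c) : Δ.δ c (b • c) ∈ Dis Δ a b :=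
  ⟨⟨c, by rw [h]⟩, c, rfl⟩

end Cfsg.Agent.H197.Cls
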