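import Mathlib
import Cfsg.Agent.H197.Cls.Basic

/-!
# S2451, helper197: Lemma Y

Two panels which are not parallel: `x0`, `y0` their gates, `m = δ x0 y0`. If `b` and `a⁻¹` map the panel of `x0` to the
panel of `y0` and all products of `a` with conjugates of `b` are `p`-elements, then `a • y0 = x0`, `b • x0 = y0`.
Consequence: `Dis Δ a b` is invariant under conjugation, and `s_i v s_i` has another length than `v` if it is not `v`.
-/

set_option autoImplicit false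
set_option linter.unusedSectionVars false

open scoped Pointwise

namespace Cfsg.Agent.H197.Cls

open Cfsg.Agent.Tits.Core Cfsg.Agent.Tits.Core.Bldg Cfsg.Agent.Tits.Exchange Cfsg.Agent.Tits Cfsg.Agent.FixBN

variable {I : Type*} {M : CoxeterMatrix I} {W : Type*} [Group W] {cs : CoxeterSystem M W} {C : Type*}

local prefix:100 "ℓ" => cs.length

/-- `x0`, `y0` are the gates of two `i`-panels which are not parallel -/
structure NP (Δ : Bldg cs C) (i : I) (x0 y0 : C) : Prop where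
  left : ℓ (Δ.δ x0 y0) < ℓ (cs.simple i * Δ.δ x0 y0)
  right : ℓ (Δ.δ x0 y0) < ℓ (Δ.δ x0 y0 * cs.simple i)
  ne : cs.simple i * Δ.δ x0 y0 ≠ Δ.δ x0 y0 * cs.simple i

namespace NP

variable {Δ : Bldg cs C} {i : I} {x0 y0 : C}

theorem len (h : NP Δ i x0 y0) : ℓ (cs.simple i * Δ.δ x0 y0 * cs.simple i) = ℓ (Δ.δ x0 y0) + 2 := by
  have h1 : ℓ (cs.simple i * Δ.δ x0 y0) = ℓ (Δ.δ x0 y0) + 1 := by
    have := cs.length_simple_mul (Δ.δ x0 y0) i
    have := h.left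
    omega
  have h2 : ℓ (Δ.δ x0 y0 * cs.simple i) = ℓ (Δ.δ x0 y0) + 1 := by
    have := cs.length_mul_simple (Δ.δ x0 y0) i
    have := h.right
    omega
  rcases fold cs h1 h2 with h3 | h3
  · exact h3
  · exact absurd h3 h.ne

theorem dL (h : NP Δ i x0 y0) {x : C} (hx : x ∈ Δ.Pan i x0) (hne : x ≠ x0) :
    Δ.δ x y0 = cs.simple i * Δ.δ x0 y0 :=
  Δ.step_lt_left (Δ.δ_eq_of_mem_Pan hx (Δ.self_mem_Pan i x0) hne) h.left

theorem dR (h : NP Δ i x0 y0) {y : C} (hy : y ∈ Δ.Pan i y0) (hne : y ≠ y0) :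
    Δ.δ x0 y = Δ.δ x0 y0 * cs.simple i :=
  Δ.step_lt x0 y0 y i (Δ.δ_eq_of_mem_Pan (Δ.self_mem_Pan i y0) hy hne.symm) h.right

theorem dLR (h : NP Δ i x0 y0) {x y : C} (hx : x ∈ Δ.Pan i x0) (hxne : x ≠ x0) (hy : y ∈ Δ.Pan i y0) (hyne : y ≠ y0) :
    Δ.δ x y = cs.simple i * Δ.δ x0 y0 * cs.simple i := by
  have h1 := h.len
  have h2 : ℓ (cs.simple i * Δ.δ x0 y0) = ℓ (Δ.δ x0 y0) + 1 := by
    have := cs.length_simple_mul (Δ.δ x0 y0) i
    have := h.left
    omega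
  have h3 := Δ.step_lt x y0 y i (Δ.δ_eq_of_mem_Pan (Δ.self_mem_Pan i y0) hy hyne.symm)
    (by rw [h.dL hx hxne]; omega)
  rw [h3, h.dL hx hxne]

theorem swap (h : NP Δ i x0 y0) : NP Δ i y0 x0 := by
  have e : Δ.δ y0 x0 = (Δ.δ x0 y0)⁻¹ := Δ.symm x0 y0
  refine ⟨?_, ?_, ?_⟩
  · rw [e, cs.length_inv, ← cs.length_inv (cs.simple i * _), mul_inv_rev, inv_inv, cs.inv_simple]
    exact h.right
  · rw [e, cs.length_inv, ← cs.length_inv (_ * cs.simple i), mul_inv_rev, inv_inv, cs.inv_simple]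
    exact h.left
  · intro h1
    apply h.ne
    rw [e] at h1
    have h2 := congrArg (fun z => z⁻¹) h1
    simp only [mul_inv_rev, inv_inv, cs.inv_simple] at h2
    exact h2.symm

/-- the gate of `x` in the panel of `y0` -/
theorem eq_gate (h : NP Δ i x0 y0) {x y : C} (hx : x ∈ Δ.Pan i x0) (hxne : x ≠ x0) (hy : y ∈ Δ.Pan i y0)
    (hd : Δ.δ x y = cs.simple i * Δ.δ x0 y0) : y = y0 := by
  by_contra hne
  have h1 := h.dLR hx hxne hy hne
  rw [hd] at h1
  have h2 := congrArg cs.length h1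
  rw [h.len] at h2
  have h3 := cs.length_simple_mul (Δ.δ x0 y0) i
  omega

theorem eq_gate0 (h : NP Δ i x0 y0) {x : C} (hx : x ∈ Δ.Pan i x0) (hd : Δ.δ x y0 = Δ.δ x0 y0) : x = x0 := by
  by_contra hne
  have h1 := h.dL hx hne
  rw [hd] at h1
  have h2 := congrArg cs.length h1
  have h3 := h.left
  omega

end NP

variable {Δ : Bldg cs C} {G : Type*} [Group G] [MulAction G C] {p : ℕ} (S : Sys Δ G p)

/-- existence of the gates -/
theorem exists_np {x y : C} {i : I} (hne : cs.simple i * Δ.δ x y ≠ Δ.δ x y * cs.simple i) :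
    ∃ x0 ∈ Δ.Pan i x, ∃ y0 ∈ Δ.Pan i y, NP Δ i x0 y0 := by
  -- first the gate of `x` in the panel of `y`
  obtain ⟨y0, hy0⟩ := Δ.exists_isProj {i} y x
  obtain ⟨x0, hx0⟩ := Δ.exists_isProj {i} x y0
  have hx0' : x0 ∈ Δ.Pan i x := by rw [Pan_eq_Res]; exact hx0.mem
  have hy0' : y0 ∈ Δ.Pan i y := by rw [Pan_eq_Res]; exact hy0.mem
  -- minimality on the left
  have hL : ℓ (Δ.δ x0 y0) < ℓ (cs.simple i * Δ.δ x0 y0) := by
    have h1 := (isMinR_iff cs).1 hx0.isMinR i rfl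
    rw [← cs.length_inv, ← cs.length_inv (Δ.δ y0 x0 * _), mul_inv_rev, cs.inv_simple, ← Δ.symm y0 x0] at h1
    exact h1
  have hR0 := (isMinR_iff cs).1 hy0.isMinR i rfl
  -- `δ x y0` is `δ x0 y0` or `s_i δ x0 y0`
  have hxy0 : Δ.δ x y0 = Δ.δ x0 y0 ∨ Δ.δ x y0 = cs.simple i * Δ.δ x0 y0 := by
    rcases eq_or_ne x x0 with rfl | h1
    · left; rfl
    · rcases Δ.step_left (z := y0) (Δ.δ_eq_of_mem_Pan (Δ.self_mem_Pan i x) hx0' h1) with h2 | h2
      · right; exact h2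
      · left; exact h2
  have hR : ℓ (Δ.δ x0 y0) < ℓ (Δ.δ x0 y0 * cs.simple i) := by
    rcases hxy0 with h1 | h1
    · rw [h1] at hR0; exact hR0
    · by_contra hcon
      rw [h1] at hR0
      have h2 := cs.length_mul_simple (Δ.δ x0 y0) i
      have h3 := cs.length_simple_mul (Δ.δ x0 y0) i
      have h4 := cs.length_mul_simple (cs.simple i * Δ.δ x0 y0) i
      have h5 := cs.length_simple_mul (Δ.δ x0 y0 * cs.simple i) i
      rw [← mul_assoc] at h5
      omega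
  refine ⟨x0, hx0', y0, hy0', hL, hR, fun heq => hne ?_⟩
  -- then all elements of the double coset commute with `s_i`
  have hss : cs.simple i * cs.simple i = 1 := cs.simple_mul_simple_self i
  have hxy : Δ.δ x y = Δ.δ x y0 ∨ Δ.δ x y = Δ.δ x y0 * cs.simple i := by
    rcases eq_or_ne y0 y with rfl | h1
    · left; rfl
    · rcases Δ.step x y0 y i (Δ.δ_eq_of_mem_Pan hy0' (Δ.self_mem_Pan i y) h1) with h2 | h2
      · right; exact h2
      · left; exact h2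
  have e0 : cs.simple i * Δ.δ x y0 = Δ.δ x y0 * cs.simple i := by
    rcases hxy0 with h1 | h1
    · rw [h1, heq]
    · rw [h1, mul_assoc (cs.simple i) (Δ.δ x0 y0), ← heq]
  rcases hxy with h1 | h1
  · rw [h1, e0]
  · rw [h1, ← mul_assoc, e0]

include S

variable [hp : Fact p.Prime] [F : OppRes.Cox cs]

/-- an element of `U x`, `x` in the panel of `x0`, not `x0`, preserving the panel of `y0` fixes `x0`, `y0`
and the panel of `x0` -/
theorem fix_of_np {i : I} {x0 y0 x : C} (h : NP Δ i x0 y0) (hx : x ∈ Δ.Pan i x0) (hxne : x ≠ x0) {u : G}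
    (hu : u ∈ S.U x) (huy : u • y0 ∈ Δ.Pan i y0) : u • y0 = y0 ∧ u • x0 = x0 ∧ ∀ z ∈ Δ.Pan i x0, u • z = z := by
  have hux := S.fix x u hu
  have h1 : u • y0 = y0 := by
    refine h.eq_gate hx hxne huy ?_
    have h2 := S.iso u x y0
    rw [hux] at h2
    rw [h2, h.dL hx hxne]
  have h2 : u • x0 = x0 := by
    refine h.eq_gate0 ?_ ?_
    · have h3 := smul_mem_Pan S (g := u) (Δ.mem_Pan_symm hx)
      rw [hux] at h3
      rw [← Δ.Pan_eq_of_mem hx]
      exact h3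
    · have h3 := S.iso u x0 y0
      rw [h1] at h3
      exact h3
  refine ⟨h1, h2, fun z hz => ?_⟩
  refine fix_pan S hu (Δ.mem_Pan_symm hx) (Ne.symm hxne) h2 ?_
  rw [Δ.Pan_eq_of_mem hx]
  exact hz

/-- the counting argument -/
theorem lemY1 [Finite C] (hth : Δ.Thick) {a b : G} (hab : Good p a b) {i : I} {x0 y0 : C} (h : NP Δ i x0 y0)
    (hb : b • x0 ∈ Δ.Pan i y0) (ha : a • y0 ∈ Δ.Pan i x0) : b • a • y0 = y0 := by
  classical
  by_contra hcon
  -- a chamber `c1 ≠ x0` of the panel of `x0`, a chamber `d1 ≠ y0` of the panel of `y0`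
  obtain ⟨c1, -, -, hc1, -⟩ := hth x0 i
  have hc1p : c1 ∈ Δ.Pan i x0 := Δ.mem_Pan_of_δ hc1
  have hc1n : c1 ≠ x0 := (Δ.ne_of_δ_simple hc1).symm
  have hbP : ∀ x ∈ Δ.Pan i x0, b • x ∈ Δ.Pan i y0 := fun x hx =>
    Δ.mem_Pan_trans hb (smul_mem_Pan S hx)
  have haP : ∀ y ∈ Δ.Pan i y0, a • y ∈ Δ.Pan i x0 := fun y hy =>
    Δ.mem_Pan_trans ha (smul_mem_Pan S hy)
  set e1 := b • a • y0 with he1
  have he1P : e1 ∈ Δ.Pan i y0 := hbP _ ha
  -- for each `d ≠ y0` of the panel an element `u`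
  have hex : ∀ d : {d : C // d ∈ Δ.Pan i y0 ∧ d ≠ y0}, ∃ u ∈ S.U c1, u • e1 = d.1 := by
    rintro ⟨d, hd, hdn⟩
    refine S.exists_move ?_
    rw [h.dLR hc1p hc1n hd hdn, h.dLR hc1p hc1n he1P hcon]
  choose u hu hue using hex
  have hufix : ∀ d, u d • y0 = y0 ∧ u d • x0 = x0 ∧ ∀ z ∈ Δ.Pan i x0, u d • z = z := by
    intro d
    refine fix_of_np S h hc1p hc1n (hu d) ?_
    have h1 := smul_mem_Pan S (g := u d) (Δ.mem_Pan_symm he1P)
    rw [hue, Δ.Pan_eq_of_mem d.2.1] at h1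
    exact h1
  -- the fixed chamber
  have hfx : ∀ d, ∃ x ∈ Δ.Pan i x0, u d • b • x = a⁻¹ • x := by
    intro d
    have h1 : PE p (a * (u d * b * (u d)⁻¹)) := hab (u d)
    have h2 : (a * (u d * b * (u d)⁻¹)) • x0 ∈ Δ.Pan i x0 := by
      rw [mul_smul, mul_smul, mul_smul]
      have h3 : (u d)⁻¹ • x0 = x0 := by rw [inv_smul_eq_iff, (hufix d).2.1]
      rw [h3]
      apply haP
      have h4 := smul_mem_Pan S (g := u d) hb
      rwa [(hufix d).1] at h4
    obtain ⟨x, hx, hxf⟩ := exists_fixed_pan S h1 h2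
    refine ⟨x, hx, ?_⟩
    rw [mul_smul, mul_smul, mul_smul] at hxf
    have h3 : (u d)⁻¹ • x = x := by rw [inv_smul_eq_iff, (hufix d).2.2 x hx]
    rw [h3] at hxf
    rw [eq_inv_smul_iff, hxf]
  choose x hxP hx using hfx
  -- `b • x d` is different from `y0` and `e1`
  have hne1 : ∀ d, b • x d ≠ y0 := by
    intro d h1
    have h2 := hx d
    rw [h1, (hufix d).1, eq_inv_smul_iff] at h2
    apply hcon
    rw [he1, h2, h1]
  have hne2 : ∀ d, b • x d ≠ e1 := by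
    intro d h1
    have h2 : x d = a • y0 := by
      rw [he1] at h1
      exact smul_left_cancel b h1
    have h3 := hx d
    rw [h2, inv_smul_smul, ← he1, hue] at h3
    exact d.2.2 h3
  let f : {d : C // d ∈ Δ.Pan i y0 ∧ d ≠ y0} → {d : C // d ∈ Δ.Pan i y0 ∧ d ≠ y0} :=
    fun d => ⟨b • x d, hbP _ (hxP d), hne1 d⟩
  have hinj : Function.Injective f := by
    intro d d' hdd
    have h1 : b • x d = b • x d' := congrArg Subtype.val hdd
    have h2 : x d = x d' := smul_left_cancel b h1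
    -- the quotient of the `u`
    have h3 : ((u d')⁻¹ * u d) • (b • x d) = b • x d := by
      rw [mul_smul, hx d, inv_smul_eq_iff, h1, hx d', h2]
    have h4 : ((u d')⁻¹ * u d) • y0 = y0 := by
      rw [mul_smul, (hufix d).1, inv_smul_eq_iff, (hufix d').1]
    have h5 : (u d')⁻¹ * u d ∈ S.U y0 := S.mem_U_of_fix (mul_mem (inv_mem (hu d')) (hu d)) h4
    have h6 := fix_pan S h5 (hbP _ (hxP d)) (hne1 d) h3 he1P
    rw [mul_smul, hue, inv_smul_eq_iff, hue] at h6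
    exact Subtype.ext h6
  have hsurj := Finite.surjective_of_injective hinj
  obtain ⟨d, hd⟩ := hsurj ⟨e1, he1P, hcon⟩
  exact hne2 d (congrArg Subtype.val hd)

/-- **Lemma Y**. -/
theorem lemY [Finite C] (hth : Δ.Thick) {a b : G} (hab : Good p a b) {i : I} {x0 y0 : C} (h : NP Δ i x0 y0)
    (hb : b • x0 ∈ Δ.Pan i y0) (ha : a • y0 ∈ Δ.Pan i x0) : a • y0 = x0 ∧ b • x0 = y0 := by
  have h0 := lemY1 S hth hab h hb ha
  -- it suffices to prove `a • y0 = x0`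
  suffices ha0 : a • y0 = x0 by
    refine ⟨ha0, ?_⟩
    rw [ha0] at h0
    exact h0
  by_contra hcon
  obtain ⟨d1, -, -, hd1, -⟩ := hth y0 i
  have hd1p : d1 ∈ Δ.Pan i y0 := Δ.mem_Pan_of_δ hd1
  have hd1n : d1 ≠ y0 := (Δ.ne_of_δ_simple hd1).symm
  -- a chamber of the panel of `x0` different from `x0` and `a • y0`
  obtain ⟨z, hz, hz1, hz2⟩ : ∃ z ∈ Δ.Pan i x0, z ≠ x0 ∧ z ≠ a • y0 := by
    obtain ⟨z1, z2, h12, hz1, hz2⟩ := hth x0 i
    rcases eq_or_ne z1 (a • y0) with h1 | h1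
    · exact ⟨z2, Δ.mem_Pan_of_δ hz2, (Δ.ne_of_δ_simple hz2).symm, fun h2 => h12 (h1.trans h2.symm)⟩
    · exact ⟨z1, Δ.mem_Pan_of_δ hz1, (Δ.ne_of_δ_simple hz1).symm, h1⟩
  obtain ⟨v, hv, hvz⟩ := S.exists_move (x := d1) (z := a • y0) (z' := z) (by
    rw [Δ.symm (a • y0) d1, Δ.symm z d1, h.dLR ha hcon hd1p hd1n, h.dLR hz hz1 hd1p hd1n])
  have hvfix := fix_of_np S h.swap hd1p hd1n hv (by
    have h1 := smul_mem_Pan S (g := v) (Δ.mem_Pan_symm ha)
    rw [hvz, Δ.Pan_eq_of_mem hz] at h1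
    exact h1)
  -- apply the first part to `v * b * v⁻¹`
  have h1 := lemY1 S hth (hab.conjR v) h (by
    rw [mul_smul, mul_smul]
    have h3 : v⁻¹ • x0 = x0 := by rw [inv_smul_eq_iff, hvfix.1]
    rw [h3, hvfix.2.2 _ hb]
    exact hb) ha
  rw [mul_smul, mul_smul] at h1
  have h2 : b • v⁻¹ • a • y0 = y0 := by
    have h3 : v⁻¹ • y0 = y0 := by rw [inv_smul_eq_iff, hvfix.2.1]
    have h4 : b • v⁻¹ • a • y0 = v⁻¹ • y0 := by rw [eq_inv_smul_iff]; exact h1
    rw [h4, h3]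
  rw [← h0] at h2
  have h3 : v⁻¹ • a • y0 = a • y0 := by
    have h4 := smul_left_cancel b h2
    rw [h0] at h4
    exact h4
  rw [inv_smul_eq_iff, hvz] at h3
  exact hz2 h3.symm

/-- the two positions of a nonparallel pair of panels -/
theorem lemY_pair [Finite C] (hth : Δ.Thick) {a b : G} (hab : Good p a b) {i : I} {c : C} (hc : b • c = a⁻¹ • c)
    (hne : cs.simple i * Δ.δ c (b • c) ≠ Δ.δ c (b • c) * cs.simple i) :
    ∃ x0 ∈ Δ.Pan i c, ∃ y0 ∈ Δ.Pan i (b • c), NP Δ i x0 y0 ∧ a • y0 = x0 ∧ b • x0 = y0 ∧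
      (Δ.δ c (b • c) = Δ.δ x0 y0 ∨ Δ.δ c (b • c) = cs.simple i * Δ.δ x0 y0 * cs.simple i) := by
  obtain ⟨x0, hx0, y0, hy0, h⟩ := exists_np hne
  have hb : b • x0 ∈ Δ.Pan i y0 := by
    rw [Δ.Pan_eq_of_mem hy0]
    exact smul_mem_Pan S hx0
  have ha : a • y0 ∈ Δ.Pan i x0 := by
    rw [Δ.Pan_eq_of_mem hx0]
    have h1 := smul_mem_Pan S (g := a) hy0
    rwa [hc, smul_inv_smul] at h1
  obtain ⟨h1, h2⟩ := lemY S hth hab h hb ha
  refine ⟨x0, hx0, y0, hy0, h, h1, h2, ?_⟩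
  rcases eq_or_ne c x0 with rfl | hcx
  · left; rw [h2]
  · right
    refine h.dLR (Δ.mem_Pan_symm hx0) hcx (Δ.mem_Pan_symm hy0) ?_
    rw [← h2]
    intro h3
    exact hcx (smul_left_cancel b h3)

/-- **Dis is invariant under conjugation by the simple reflections, and the lengths differ.** -/
theorem dis_simple [Finite C] (hth : Δ.Thick) {a b : G} (hab : Good p a b) {v : W} (hv : v ∈ Dis Δ a b) {i : I}
    (hne : cs.simple i * v ≠ v * cs.simple i) :
    cs.simple i * v * cs.simple i ∈ Dis Δ a b ∧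
      ((ℓ (cs.simple i * v * cs.simple i) = ℓ v + 2 ∧ ℓ v < ℓ (cs.simple i * v) ∧ ℓ v < ℓ (v * cs.simple i)) ∨
       (ℓ (cs.simple i * v * cs.simple i) + 2 = ℓ v ∧ ℓ (cs.simple i * v) < ℓ v ∧ ℓ (v * cs.simple i) < ℓ v)) := by
  obtain ⟨g, c, hc1, hc2⟩ := exists_pair S hth hv
  have hab' := hab.conjR g
  rw [← dis_conj S g]
  set b' := g * b * g⁻¹ with hb'
  rw [← hc2] at hc1
  rw [← hc1] at hne
  obtain ⟨x0, hx0, y0, hy0, h, h1, h2, h3⟩ := lemY_pair S hth hab' hc2 hne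
  have hss : cs.simple i * cs.simple i = 1 := cs.simple_mul_simple_self i
  have hm : Δ.δ x0 y0 ∈ Dis Δ a b' := by
    have := mem_dis (Δ := Δ) S (a := a) (b := b') (c := x0) (by rw [h2, eq_inv_smul_iff, h1])
    rwa [h2] at this
  have hl := h.len
  rcases h3 with h3 | h3
  · -- `v = m`
    rw [hc1] at h3
    refine ⟨?_, Or.inl ⟨?_, ?_, ?_⟩⟩
    · obtain ⟨c1, -, -, hc1, -⟩ := hth x0 i
      have hc1p : c1 ∈ Δ.Pan i x0 := Δ.mem_Pan_of_δ hc1
      have hc1n : c1 ≠ x0 := (Δ.ne_of_δ_simple hc1).symm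
      have hmP : ∀ z ∈ Δ.Pan i x0, b' • z ∈ Δ.Pan i y0 := fun z hz => by
        have := smul_mem_Pan S (g := b') hz
        rwa [h2] at this
      have hn : b' • c1 ≠ y0 := by
        rw [← h2]
        intro h4
        exact hc1n (smul_left_cancel b' h4)
      refine ⟨⟨c1, ?_⟩, ⟨c1, ?_⟩⟩
      · have h4 : a⁻¹ • c1 ∈ Δ.Pan i y0 := by
          have := smul_mem_Pan S (g := a⁻¹) hc1p
          rwa [← h1, inv_smul_smul] at this
        have h5 : a⁻¹ • c1 ≠ y0 := by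
          intro h6
          rw [inv_smul_eq_iff, h1] at h6
          exact hc1n h6
        rw [h.dLR hc1p hc1n h4 h5, h3]
      · rw [h.dLR hc1p hc1n (hmP _ hc1p) hn, h3]
    · rw [h3]; exact hl
    · rw [h3]; exact h.left
    · rw [h3]; exact h.right
  · -- `v = s m s`
    rw [hc1] at h3
    have e1 : cs.simple i * v * cs.simple i = Δ.δ x0 y0 := by
      rw [h3]
      calc cs.simple i * (cs.simple i * Δ.δ x0 y0 * cs.simple i) * cs.simple i
          = (cs.simple i * cs.simple i) * Δ.δ x0 y0 * (cs.simple i * cs.simple i) := by group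
        _ = _ := by rw [hss, one_mul, mul_one]
    have e2 : cs.simple i * v = Δ.δ x0 y0 * cs.simple i := by
      rw [h3, ← mul_assoc, ← mul_assoc, hss, one_mul]
    have e3 : v * cs.simple i = cs.simple i * Δ.δ x0 y0 := by
      rw [h3, mul_assoc, hss, mul_one]
    have l1 := cs.length_mul_simple (Δ.δ x0 y0) i
    have l2 := cs.length_simple_mul (Δ.δ x0 y0) i
    refine ⟨by rw [e1]; exact hm, Or.inr ⟨?_, ?_, ?_⟩⟩
    · rw [e1, h3]; omega
    · rw [e2, h3]; omega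
    · rw [e3, h3]; omega

end Cfsg.Agent.H197.Cls
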