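import Mathlib
import Cfsg.Agent.H197.Cls.LemY

/-!
# S2451, helper197: `Dis Δ a b` is a union of classes of involutions `w_J`, `w_J` central in `W_J`

* `dis_conj_mem` : invariance under `W`;
* `exists_wJ` : each element of `Dis Δ a b` is conjugate to some `w_J` which commutes with `s_j`, `j ∈ J`.
-/

set_option autoImplicit false
set_option linter.unusedSectionVars false

open scoped Pointwise

namespace Cfsg.Agent.H197.Cls

open Cfsg.Agent.Tits.Core Cfsg.Agent.Tits.Core.Bldg Cfsg.Agent.Tits.Exchange Cfsg.Agent.Tits Cfsg.Agent.FixBN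

variable {I : Type*} {M : CoxeterMatrix I} {W : Type*} [Group W] {cs : CoxeterSystem M W} {C : Type*}

local prefix:100 "ℓ" => cs.length

/-- an element all of whose descents commute with it is `w_J` -/
theorem eq_wJ_of_comm [F : OppRes.Cox cs] {w : W}
    (h : ∀ i, (ℓ (cs.simple i * w) < ℓ w ∨ ℓ (w * cs.simple i) < ℓ w) → cs.simple i * w = w * cs.simple i) :
    ∃ J : Set I, w = wJ cs J ∧ (∀ i, i ∈ J ↔ ℓ (cs.simple i * w) < ℓ w) ∧
      ∀ i ∈ J, cs.simple i * wJ cs J = wJ cs J * cs.simple i := by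
  set J : Set I := {i | ℓ (cs.simple i * w) < ℓ w} with hJdef
  have hJ : ∀ i, i ∈ J ↔ ℓ (cs.simple i * w) < ℓ w := fun i => Iff.rfl
  obtain ⟨u, hu, v, hw, hv⟩ := exists_isMinL cs J w
  have hv1 : v = 1 := by
    by_contra hne
    obtain ⟨k, hk⟩ := cs.exists_rightDescent_of_ne_one hne
    have hk' : ℓ (v * cs.simple k) < ℓ v := hk
    have h3 : ℓ (w * cs.simple k) < ℓ w := by
      have h4 := hv u hu
      have h5 := cs.length_mul_le u (v * cs.simple k)
      rw [← mul_assoc, ← hw] at h5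
      rw [← hw] at h4
      omega
    have h8 := h k (Or.inr h3)
    have h6 : ℓ (cs.simple k * w) < ℓ w := by rw [h8]; exact h3
    have h9 : v * cs.simple k = (u⁻¹ * cs.simple k * u) * v := by
      have h10 : cs.simple k * (u * v) = u * v * cs.simple k := by rw [← hw]; exact h8
      calc v * cs.simple k = u⁻¹ * (u * v * cs.simple k) := by group
        _ = u⁻¹ * (cs.simple k * (u * v)) := by rw [h10]
        _ = _ := by group
    have h11 : u⁻¹ * cs.simple k * u ∈ WJ cs J :=
      mul_mem (mul_mem (inv_mem hu) (simple_mem_WJ cs ((hJ _).2 h6))) hu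
    have h12 := hv _ h11
    rw [← h9] at h12
    omega
  have hwu : w = u := by rw [hw, hv1, mul_one]
  have hwJ : w ∈ WJ cs J := by rw [hwu]; exact hu
  have h3 : w⁻¹ = wJ cs J := by
    refine F.eq_wJ_of_descents (inv_mem hwJ) fun j hj => ?_
    have h4 := cs.length_inv (cs.simple j * w)
    rw [mul_inv_rev, cs.inv_simple] at h4
    rw [h4, cs.length_inv]
    exact hj
  have h4 : w = wJ cs J := by rw [← inv_inv w, h3, F.wJ_inv]
  refine ⟨J, h4, hJ, fun i hi => ?_⟩
  rw [← h4]
  exact h i (Or.inl hi)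

variable {Δ : Bldg cs C} {G : Type*} [Group G] [MulAction G C] {p : ℕ} (S : Sys Δ G p)

include S

variable [hp : Fact p.Prime] [F : OppRes.Cox cs] [Finite C]

/-- `Dis Δ a b` is invariant under conjugation -/
theorem dis_conj_mem (hth : Δ.Thick) {a b : G} (hab : Good p a b) {v : W} (hv : v ∈ Dis Δ a b) (w : W) :
    w * v * w⁻¹ ∈ Dis Δ a b := by
  induction w using cs.simple_induction_left with
  | one => simpa using hv
  | mul_simple_left w i ih =>
    have e : cs.simple i * w * v * (cs.simple i * w)⁻¹ = cs.simple i * (w * v * w⁻¹) * cs.simple i := by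
      rw [mul_inv_rev, cs.inv_simple]
      group
    rw [e]
    by_cases h : cs.simple i * (w * v * w⁻¹) = (w * v * w⁻¹) * cs.simple i
    · rw [h, mul_assoc _ (cs.simple i), cs.simple_mul_simple_self, mul_one]
      exact ih
    · exact (dis_simple S hth hab ih h).1

/-- each element is conjugate to a longest element `w_J`, central in `W_J` -/
theorem exists_wJ (hth : Δ.Thick) {a b : G} (hab : Good p a b) {v : W} (hv : v ∈ Dis Δ a b) :
    ∃ (w : W) (J : Set I), w * v * w⁻¹ = wJ cs J ∧ ∀ i ∈ J, cs.simple i * wJ cs J = wJ cs J * cs.simple i := by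
  classical
  have hne : ∃ n, ∃ w : W, ℓ (w * v * w⁻¹) = n := ⟨_, 1, rfl⟩
  obtain ⟨w, hw⟩ := Nat.find_spec hne
  have hmin : ∀ w' : W, ℓ (w * v * w⁻¹) ≤ ℓ (w' * v * w'⁻¹) := fun w' => by
    rw [hw]; exact Nat.find_min' hne ⟨w', rfl⟩
  have hmem := dis_conj_mem S hth hab hv w
  obtain ⟨J, h1, -, h3⟩ := eq_wJ_of_comm (cs := cs) (w := w * v * w⁻¹) (by
    intro i hi
    by_contra hcon
    have h4 := hmin (cs.simple i * w)
    have e : cs.simple i * w * v * (cs.simple i * w)⁻¹ = cs.simple i * (w * v * w⁻¹) * cs.simple i := by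
      rw [mul_inv_rev, cs.inv_simple]
      group
    rw [e] at h4
    obtain ⟨-, ⟨h5, h6, h7⟩ | ⟨h5, h6, h7⟩⟩ := dis_simple S hth hab hmem hcon
    · rcases hi with hi | hi <;> omega
    · omega)
  exact ⟨w, J, h1, h3⟩

theorem wJ_mem_dis (hth : Δ.Thick) {a b : G} (hab : Good p a b) {v : W} (hv : v ∈ Dis Δ a b) :
    ∃ J : Set I, wJ cs J ∈ Dis Δ a b ∧ (J = ∅ → v = 1) ∧
      ∀ i ∈ J, cs.simple i * wJ cs J = wJ cs J * cs.simple i := by
  obtain ⟨w, J, h1, h2⟩ := exists_wJ S hth hab hv
  refine ⟨J, ?_, ?_, h2⟩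
  · rw [← h1]; exact dis_conj_mem S hth hab hv w
  · rintro rfl
    have h3 : wJ cs (∅ : Set I) = 1 := by
      have h4 := F.wJ_mem (∅ : Set I)
      rw [WJ, Set.image_empty, Subgroup.closure_empty, Subgroup.mem_bot] at h4
      exact h4
    rw [h3, mul_inv_eq_one] at h1
    have h5 : w * v = w * 1 := by rw [mul_one]; exact h1
    exact mul_left_cancel h5

end Cfsg.Agent.H197.Cls
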