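import Mathlib
import Cfsg.Agent.H197.Cls.DisW

/-!
# S2451, helper197: the torus lemma

If `b • c = a⁻¹ • c = d` and all products of `a` with conjugates of `b` are `p`-elements, then each `h` fixing `c` and `d`
satisfies `h * (b * h⁻¹ * b⁻¹) ∈ U d`.
-/

set_option autoImplicit false
set_option linter.unusedSectionVars false

open scoped Pointwise

namespace Cfsg.Agent.H197.Cls

open Cfsg.Agent.Tits.Core Cfsg.Agent.Tits.Core.Bldg Cfsg.Agent.Tits.Exchange Cfsg.Agent.Tits Cfsg.Agent.FixBN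

variable {I : Type*} {M : CoxeterMatrix I} {W : Type*} [Group W] {cs : CoxeterSystem M W} {C : Type*}

variable {Δ : Bldg cs C} {G : Type*} [Group G] [MulAction G C] {p : ℕ} (S : Sys Δ G p) [hp : Fact p.Prime]

include S

/-- **The torus lemma.** -/
theorem tor {a b : G} (hab : Good p a b) {c : C} (hc : b • c = a⁻¹ • c) {h : G} (h1 : h • c = c)
    (h2 : h • b • c = b • c) : h * (b * h⁻¹ * b⁻¹) ∈ S.U (b • c) := by
  have hc' : a • b • c = c := by rw [hc, smul_inv_smul]
  have hi : h⁻¹ • c = c := by rw [inv_smul_eq_iff, h1]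
  have e1 : a * b ∈ S.U c := mem_U S hab.mul (by rw [mul_smul, hc'])
  have e2 : a * (h * b * h⁻¹) ∈ S.U c := mem_U S (hab h) (by rw [mul_smul, mul_smul, mul_smul, hi, h2, hc'])
  have e3 := mul_mem e2 (inv_mem e1)
  have e4 := S.conj_mem_U e3 a⁻¹
  rw [← hc] at e4
  have e5 : a⁻¹ * (a * (h * b * h⁻¹) * (a * b)⁻¹) * a⁻¹⁻¹ = h * (b * h⁻¹ * b⁻¹) := by group
  rwa [e5] at e4

end Cfsg.Agent.H197.Cls
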